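import Cfsg.Agent.FS.Pc.Defs

/-!
# Central extensions by an involution, given by a base and a class (helper49, project FS; interface of part A)

`Ext z x c r n w R`: the group has order `2 ^ (n + 1)`, `z` is a central involution, `x 0, …, x (n-1)` satisfy the
relations `R` with the tail number `i < r` read as `z ^ c_i`, and every element is `el x n a` or `el x n a * z`.
-/

set_option autoImplicit false

namespace Cfsg.Agent.FS.Pc

universe u

variable {G : Type u} [Group G]

/-- tails `z ^ c_i`, then the generators `x` -/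
def gens (z : G) (c r : ℕ) (x : ℕ → G) (i : ℕ) : G := if i < r then (bif c.testBit i then z else 1) else x (i - r)

structure Ext (z : G) (x : ℕ → G) (c r n w R : ℕ) : Prop where
  pc : IsPc (gens z c r x) r n w R
  width : r + n ≤ w
  z2 : z * z = 1
  zc : ∀ y, z * y = y * z
  span : ∀ y : G, ∃ a, a < 2 ^ n ∧ (y = el x n a ∨ y = el x n a * z)
  card : Nat.card G = 2 ^ (n + 1)

/-- A base: presentation with `r` tails and `cnt` representatives of classes, packed with width `r`. -/
structure Base where
  r : ℕ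
  w : ℕ
  rel : ℕ
  cnt : ℕ
  reps : ℕ

/-- `G` with its central involution `z` occurs in the base `B`. -/
def Base.Has (B : Base) (n : ℕ) (z : G) : Prop :=
  ∃ i, i < B.cnt ∧ ∃ x : ℕ → G, Ext z x (get B.r B.reps i) B.r n B.w B.rel

/-- `z ^ e` for a bit `e` -/
def zp (z : G) (e : Bool) : G := bif e then z else 1

/-- parity of the number of bits below `r` -/
def par : ℕ → ℕ → Bool
  | 0, _ => false
  | r + 1, a => xor (a.testBit r) (par r a)

theorem par_realised : True := by
  have := @par.eq_def
  trivial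

theorem zp_xor {z : G} (hz : z * z = 1) (a b : Bool) : zp z (xor a b) = zp z a * zp z b := by
  cases a <;> cases b <;> simp [zp, hz]

theorem gens_add (z : G) (c r : ℕ) (x : ℕ → G) (i : ℕ) : gens z c r x (r + i) = x i := by
  unfold gens
  rw [if_neg (by omega), Nat.add_sub_cancel_left]

theorem el_gens_tail {z : G} (hz : z * z = 1) (c r : ℕ) (x : ℕ → G) (a : ℕ) :
    ∀ m, m ≤ r → el (gens z c r x) m a = zp z (par m (a &&& c))
  | 0, _ => rfl
  | m + 1, hm => by
    have h1 : par (m + 1) (a &&& c) = xor ((a &&& c).testBit m) (par m (a &&& c)) := rfl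
    rw [el_succ, el_gens_tail hz c r x a m (by omega), h1, zp_xor hz, Nat.testBit_and]
    congr 1
    unfold gens
    rw [if_pos (by omega)]
    cases a.testBit m <;> cases c.testBit m <;> rfl

theorem el_gens {z : G} (hz : z * z = 1) (c r n : ℕ) (x : ℕ → G) (a : ℕ) :
    el (gens z c r x) (r + n) a = el x n (a >>> r) * zp z (par r (a &&& c)) := by
  rw [el_split, el_gens_tail hz c r x a r le_rfl]
  congr 1
  exact el_congr_g _ n fun k _ => gens_add z c r x k

namespace Ext

variable {z : G} {x : ℕ → G} {c r n w R : ℕ}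

/-- the multiplication of the normal forms -/
theorem mul (h : Ext z x c r n w R) {a b : ℕ} (ha : a < 2 ^ n) (hb : b < 2 ^ n) :
    get w (tab r n w R) (2 ^ n * a + b) >>> r < 2 ^ n ∧
    el x n a * el x n b = el x n (get w (tab r n w R) (2 ^ n * a + b) >>> r) *
      zp z (par r (get w (tab r n w R) (2 ^ n * a + b) &&& c)) := by
  obtain ⟨h1, h2⟩ := h.pc.tab_ok h.width a ha b hb
  refine ⟨shiftRight_lt h1, ?_⟩
  rw [← el_gens h.z2, ← h2, el_shift, el_shift]
  congr 1 <;> exact el_congr_g _ n fun k _ => (gens_add z c r x k).symm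

theorem finite (h : Ext z x c r n w R) : Finite G :=
  Nat.finite_of_card_ne_zero (by rw [h.card]; exact (Nat.two_pow_pos _).ne')

theorem span' (h : Ext z x c r n w R) (y : G) : ∃ a, a < 2 ^ n ∧ ∃ e, y = el x n a * zp z e := by
  obtain ⟨a, ha, h1 | h1⟩ := h.span y
  · exact ⟨a, ha, false, by rw [h1]; exact (mul_one _).symm⟩
  · exact ⟨a, ha, true, h1⟩

/-- normal forms are unique -/
theorem inj (h : Ext z x c r n w R) {a b : ℕ} (ha : a < 2 ^ n) (hb : b < 2 ^ n) {e f : Bool}
    (he : el x n a * zp z e = el x n b * zp z f) : a = b ∧ e = f := by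
  let φ : Fin (2 ^ n) × Bool → G := fun p => el x n p.1 * zp z p.2
  have h1 : Function.Surjective φ := fun y => by
    obtain ⟨a, ha, e, h2⟩ := h.span' y
    exact ⟨(⟨a, ha⟩, e), h2.symm⟩
  have h2 : Function.Bijective φ := by
    refine (Nat.bijective_iff_surjective_and_card φ).2 ⟨h1, ?_⟩
    rw [h.card, Nat.card_prod, Nat.card_eq_fintype_card, Fintype.card_fin, Nat.card_eq_fintype_card,
      Fintype.card_bool, Nat.pow_succ]
  have h3 := h2.1 (a₁ := (⟨a, ha⟩, e)) (a₂ := (⟨b, hb⟩, f)) he
  exact ⟨congrArg (fun p => p.1.1) h3, congrArg Prod.snd h3⟩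

theorem z_ne (h : Ext z x c r n w R) : z ≠ 1 := fun h1 => by
  have := (h.inj (Nat.two_pow_pos n) (Nat.two_pow_pos n) (e := true) (f := false) (by simp [zp, h1])).2
  cases this

theorem isPGroup (h : Ext z x c r n w R) : IsPGroup 2 G := IsPGroup.of_card h.card

end Ext

end Cfsg.Agent.FS.Pc
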