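import Mathlib

/-!
# Power-commutator presentations with tails and their multiplication tables (helper49, project FS)

Generators are numbered from the bottom: `el g n a = g (n-1) ^ a_(n-1) * ⋯ * g 0 ^ a_0`.  The lowest `r` generators are
central involutions ("tails"), `n` further generators lie above them.  `tab r n w R` is the packed table of the
`2 ^ n × 2 ^ n` products of the elements without tail part; only soundness is proved (`IsPc.tab_ok`, `IsPc.mul`).
-/

set_option autoImplicit false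

namespace Cfsg.Agent.FS.Pc

universe u

/-- forces the evaluation of `x` in the kernel -/
noncomputable def frc {α : Sort u} (x : ℕ) (f : ℕ → α) : α :=
  Nat.rec (motive := fun _ => α) (f 0) (fun k _ => f (Nat.succ k)) x

theorem frc_eq {α : Sort u} (x : ℕ) (f : ℕ → α) : frc x f = f x := by
  cases x <;> rfl

theorem nadd (a b : ℕ) : Nat.add a b = a + b := rfl
theorem nsub (a b : ℕ) : Nat.sub a b = a - b := rfl
theorem nmul (a b : ℕ) : Nat.mul a b = a * b := rfl
theorem nmod (a b : ℕ) : Nat.mod a b = a % b := rfl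
theorem nshl (a b : ℕ) : Nat.shiftLeft a b = a <<< b := rfl
theorem nshr (a b : ℕ) : Nat.shiftRight a b = a >>> b := rfl
theorem nxor (a b : ℕ) : Nat.xor a b = a ^^^ b := rfl
theorem nland (a b : ℕ) : Nat.land a b = a &&& b := rfl
theorem nlor (a b : ℕ) : Nat.lor a b = a ||| b := rfl
theorem shl_eq (a b : ℕ) : Nat.shiftLeft a b = a * 2 ^ b := Nat.shiftLeft_eq a b
theorem one_shl (b : ℕ) : Nat.shiftLeft 1 b = 2 ^ b := by rw [shl_eq, Nat.one_mul]

/-- `2 ^ k - 1` -/
def msk (k : ℕ) : ℕ := Nat.pred (Nat.shiftLeft 1 k)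

theorem msk_eq (k : ℕ) : msk k = 2 ^ k - 1 := by
  unfold msk
  rw [one_shl, Nat.pred_eq_sub_one]

theorem land_msk (a k : ℕ) : Nat.land a (msk k) = a % 2 ^ k := by
  rw [msk_eq]
  exact Nat.and_two_pow_sub_one_eq_mod a k

/-- entry `i` of a packed vector with entries of `w` bits -/
def get (w T i : ℕ) : ℕ := (T >>> (w * i)) % 2 ^ w

theorem get_lt (w T i : ℕ) : get w T i < 2 ^ w := Nat.mod_lt _ (Nat.two_pow_pos w)

theorem testBit_get (w T i j : ℕ) : (get w T i).testBit j = (decide (j < w) && T.testBit (w * i + j)) := by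
  unfold get
  rw [Nat.testBit_mod_two_pow, Nat.testBit_shiftRight]

theorem get_xor (w A B i : ℕ) : get w (A ^^^ B) i = get w A i ^^^ get w B i := by
  refine Nat.eq_of_testBit_eq fun j => ?_
  simp only [testBit_get, Nat.testBit_xor]
  cases decide (j < w) <;> simp

theorem get_land (w A B i : ℕ) : get w (A &&& B) i = get w A i &&& get w B i := by
  refine Nat.eq_of_testBit_eq fun j => ?_
  simp only [testBit_get, Nat.testBit_and]
  cases decide (j < w) <;> simp

theorem get_lor (w A B i : ℕ) : get w (A ||| B) i = get w A i ||| get w B i := by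
  refine Nat.eq_of_testBit_eq fun j => ?_
  simp only [testBit_get, Nat.testBit_or]
  cases decide (j < w) <;> simp

theorem get_zero_of_lt {w A : ℕ} (h : A < 2 ^ w) : get w A 0 = A := by
  unfold get
  rw [Nat.mul_zero, Nat.shiftRight_zero, Nat.mod_eq_of_lt h]

theorem testBit_cat {A s : ℕ} (B : ℕ) (h : A < 2 ^ s) (j : ℕ) :
    (A + B <<< s).testBit j = if j < s then A.testBit j else B.testBit (j - s) := by
  rw [Nat.shiftLeft_eq, Nat.add_comm, Nat.mul_comm]
  exact Nat.testBit_two_pow_mul_add B h j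

theorem cat_lt {A B s t : ℕ} (hA : A < 2 ^ s) (hB : B < 2 ^ t) : A + B <<< s < 2 ^ (s + t) := by
  rw [Nat.shiftLeft_eq, Nat.pow_add]
  calc A + B * 2 ^ s < 2 ^ s + B * 2 ^ s := Nat.add_lt_add_right hA _
    _ = 2 ^ s * (B + 1) := by ring
    _ ≤ 2 ^ s * 2 ^ t := Nat.mul_le_mul_left _ hB

theorem get_cat_lo {w m A : ℕ} (B : ℕ) (h : A < 2 ^ (w * m)) {i : ℕ} (hi : i < m) :
    get w (A + B <<< (w * m)) i = get w A i := by
  refine Nat.eq_of_testBit_eq fun j => ?_
  rw [testBit_get, testBit_get, testBit_cat B h]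
  by_cases hj : j < w
  · have h1 : w * i + j < w * m := by nlinarith
    rw [if_pos h1]
  · simp [hj]

theorem get_cat_hi {w m A : ℕ} (B : ℕ) (h : A < 2 ^ (w * m)) (i : ℕ) :
    get w (A + B <<< (w * m)) (m + i) = get w B i := by
  refine Nat.eq_of_testBit_eq fun j => ?_
  rw [testBit_get, testBit_get, testBit_cat B h, if_neg (by rw [Nat.mul_add]; omega)]
  congr 2
  rw [Nat.mul_add]
  omega

theorem get_get (w m T x : ℕ) {i : ℕ} (hi : i < m) : get w (get (w * m) T x) i = get w T (m * x + i) := by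
  refine Nat.eq_of_testBit_eq fun j => ?_
  rw [testBit_get, testBit_get, testBit_get]
  by_cases hj : j < w
  · have h1 : w * i + j < w * m := by nlinarith
    have h2 : w * m * x + (w * i + j) = w * (m * x + i) + j := by ring
    simp [hj, h1, h2]
  · simp [hj]

/-- `2 ^ k` ones at distance `w` -/
noncomputable def ones (w k : ℕ) : ℕ :=
  Nat.rec (motive := fun _ => ℕ) 1 (fun j o => frc o fun o => Nat.add o (Nat.shiftLeft o (Nat.shiftLeft w j))) k

theorem ones_zero (w : ℕ) : ones w 0 = 1 := rfl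

theorem ones_succ (w k : ℕ) : ones w (k + 1) = ones w k + ones w k <<< (w * 2 ^ k) := by
  have h : ones w (k + 1) = frc (ones w k) fun o => Nat.add o (Nat.shiftLeft o (Nat.shiftLeft w k)) := rfl
  rw [h, frc_eq, shl_eq w]
  rfl

theorem mul_ones_succ (v w k : ℕ) : v * ones w (k + 1) = v * ones w k + (v * ones w k) <<< (w * 2 ^ k) := by
  rw [ones_succ, Nat.shiftLeft_eq, Nat.shiftLeft_eq]
  ring

theorem mul_ones_lt {v w : ℕ} (h : v < 2 ^ w) : ∀ k, v * ones w k < 2 ^ (w * 2 ^ k)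
  | 0 => by rwa [ones_zero, Nat.mul_one, Nat.pow_zero, Nat.mul_one]
  | k + 1 => by
    rw [mul_ones_succ, Nat.pow_succ, Nat.mul_two, Nat.mul_add]
    exact cat_lt (mul_ones_lt h k) (mul_ones_lt h k)

theorem get_mul_ones {v w : ℕ} (h : v < 2 ^ w) : ∀ (k : ℕ) {i : ℕ}, i < 2 ^ k → get w (v * ones w k) i = v
  | 0, i, hi => by
    have : i = 0 := by simpa using hi
    rw [this, ones_zero, Nat.mul_one, get_zero_of_lt h]
  | k + 1, i, hi => by
    rw [mul_ones_succ]
    by_cases h1 : i < 2 ^ k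
    · rw [get_cat_lo _ (mul_ones_lt h k) h1, get_mul_ones h k h1]
    · obtain ⟨j, rfl⟩ := Nat.exists_eq_add_of_le (not_lt.1 h1)
      rw [get_cat_hi _ (mul_ones_lt h k), get_mul_ones h k (by rw [Nat.pow_succ] at hi; omega)]

section el

variable {G : Type u} [Group G]

/-- `g (n-1) ^ a_(n-1) * ⋯ * g 0 ^ a_0` -/
def el (g : ℕ → G) : ℕ → ℕ → G
  | 0, _ => 1
  | n + 1, a => (bif a.testBit n then g n else 1) * el g n a

theorem el_realised : True := by
  have := @el.eq_def.{0}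
  trivial

theorem el_zero (g : ℕ → G) (a : ℕ) : el g 0 a = 1 := rfl

theorem el_succ (g : ℕ → G) (n a : ℕ) : el g (n + 1) a = (bif a.testBit n then g n else 1) * el g n a := rfl

theorem el_congr (g : ℕ → G) {a b : ℕ} : ∀ n, (∀ k, k < n → a.testBit k = b.testBit k) → el g n a = el g n b
  | 0, _ => rfl
  | n + 1, h => by
    rw [el_succ, el_succ, h n (Nat.lt_succ_self _), el_congr g n fun k hk => h k (Nat.lt_succ_of_lt hk)]

theorem el_congr_g {g g' : ℕ → G} (a : ℕ) : ∀ n, (∀ k, k < n → g k = g' k) → el g n a = el g' n a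
  | 0, _ => rfl
  | n + 1, h => by
    rw [el_succ, el_succ, h n (Nat.lt_succ_self _), el_congr_g a n fun k hk => h k (Nat.lt_succ_of_lt hk)]

theorem el_nil (g : ℕ → G) : ∀ n, el g n 0 = 1
  | 0 => rfl
  | n + 1 => by rw [el_succ, Nat.zero_testBit, cond_false, el_nil g n, one_mul]

theorem el_mod (g : ℕ → G) (n a : ℕ) : el g n (a % 2 ^ n) = el g n a :=
  el_congr g n fun k hk => by rw [Nat.testBit_mod_two_pow, decide_eq_true hk, Bool.true_and]

theorem el_of_lt (g : ℕ → G) {m a : ℕ} (ha : a < 2 ^ m) : ∀ {n : ℕ}, m ≤ n → el g n a = el g m a := by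
  intro n hn
  induction n, hn using Nat.le_induction with
  | base => rfl
  | succ n hn ih =>
    rw [el_succ, Nat.testBit_lt_two_pow (ha.trans_le (Nat.pow_le_pow_right (by norm_num) hn)), cond_false, one_mul, ih]

theorem el_top (g : ℕ → G) {n a : ℕ} (ha : a < 2 ^ n) : el g (n + 1) (a ^^^ 2 ^ n) = g n * el g n a := by
  rw [el_succ, Nat.testBit_xor, Nat.testBit_lt_two_pow ha, Nat.testBit_two_pow_self]
  congr 1
  refine el_congr g n fun k hk => ?_
  rw [Nat.testBit_xor, Nat.testBit_two_pow_of_ne hk.ne', Bool.xor_false]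

theorem two_pow_add_eq_xor {k a : ℕ} (ha : a < 2 ^ k) : 2 ^ k + a = a ^^^ 2 ^ k := by
  have h := testBit_cat 1 ha
  refine Nat.eq_of_testBit_eq fun j => ?_
  have h1 := h j
  rw [Nat.shiftLeft_eq, Nat.one_mul, Nat.add_comm] at h1
  rw [h1, Nat.testBit_xor, Nat.testBit_two_pow]
  by_cases h2 : j < k
  · rw [if_pos h2, decide_eq_false (by omega), Bool.xor_false]
  · rw [if_neg h2, Nat.testBit_lt_two_pow (ha.trans_le (Nat.pow_le_pow_right (by norm_num) (not_lt.1 h2))),
      Bool.false_xor, ← Nat.pow_zero 2, Nat.testBit_two_pow]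
    simp only [decide_eq_decide]
    omega

theorem map_el {H : Type*} [Group H] (f : G →* H) (g : ℕ → G) (a : ℕ) :
    ∀ n, f (el g n a) = el (fun i => f (g i)) n a
  | 0 => map_one f
  | n + 1 => by
    rw [el_succ, el_succ, map_mul, map_el f g a n]
    cases a.testBit n
    · rw [cond_false, cond_false, map_one]
    · rfl

theorem el_mem {g : ℕ → G} {A : Subgroup G} (a : ℕ) : ∀ n, (∀ i, i < n → g i ∈ A) → el g n a ∈ A
  | 0, _ => A.one_mem
  | n + 1, h => by
    rw [el_succ]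
    refine A.mul_mem ?_ (el_mem a n fun i hi => h i (Nat.lt_succ_of_lt hi))
    cases a.testBit n
    · exact A.one_mem
    · exact h n (Nat.lt_succ_self _)

/-- high and low part -/
theorem el_split (g : ℕ → G) (r a : ℕ) : ∀ k, el g (r + k) a = el (fun i => g (r + i)) k (a >>> r) * el g r a
  | 0 => (one_mul _).symm
  | k + 1 => by
    rw [← Nat.add_assoc, el_succ, el_succ, el_split g r a k, Nat.testBit_shiftRight, mul_assoc]

/-- index of the relation `(k, j)`, `j ≤ k` -/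
def tri (k j : ℕ) : ℕ := k * (k + 1) / 2 + j

/-- The relations `R` (packed, entries of `w` bits) hold: `r` tails, `n` generators above them. -/
structure IsPc (g : ℕ → G) (r n w R : ℕ) : Prop where
  tsq : ∀ i, i < r → g i * g i = 1
  tc : ∀ i, i < r → ∀ x, g i * x = x * g i
  pw : ∀ k, k < n → g (r + k) * g (r + k) = el g (r + k) (get w R (tri k k))
  cj : ∀ k, k < n → ∀ j, j < k → g (r + j) * g (r + k) = g (r + k) * el g (r + k) (get w R (tri k j))

/-- the tail generators are central involutions -/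
structure Tails (g : ℕ → G) (r : ℕ) : Prop where
  tsq : ∀ i, i < r → g i * g i = 1
  tc : ∀ i, i < r → ∀ x, g i * x = x * g i

theorem IsPc.tails {g : ℕ → G} {r n w R : ℕ} (h : IsPc g r n w R) : Tails g r := ⟨h.tsq, h.tc⟩

theorem Tails.comm {g : ℕ → G} {r : ℕ} (h : Tails g r) (a : ℕ) (x : G) : ∀ m, m ≤ r → el g m a * x = x * el g m a
  | 0, _ => by rw [el_zero, one_mul, mul_one]
  | m + 1, hm => by
    rw [el_succ, mul_assoc, h.comm a x m (by omega), ← mul_assoc, ← mul_assoc]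
    congr 1
    cases a.testBit m
    · rw [cond_false, one_mul, mul_one]
    · exact h.tc m hm x

theorem Tails.xor {g : ℕ → G} {r : ℕ} (h : Tails g r) (a b : ℕ) :
    ∀ m, m ≤ r → el g m (a ^^^ b) = el g m a * el g m b
  | 0, _ => (one_mul _).symm
  | m + 1, hm => by
    have h1 : ∀ x y : G, x * el g m a * (y * el g m b) = x * y * (el g m a * el g m b) := fun x y => by
      rw [mul_assoc, ← mul_assoc (el g m a), h.comm a y m (by omega)]
      simp only [mul_assoc]
    rw [el_succ, el_succ, el_succ, h.xor a b m (by omega), Nat.testBit_xor, h1]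
    congr 1
    cases a.testBit m <;> cases b.testBit m <;> simp [h.tsq m hm]

theorem Tails.el_xor {g : ℕ → G} {r : ℕ} (h : Tails g r) (k a : ℕ) {t : ℕ} (ht : t < 2 ^ r) :
    el g (r + k) (a ^^^ t) = el g (r + k) a * el g r t := by
  rw [el_split, el_split g r a, h.xor a t r le_rfl, Nat.shiftRight_xor_distrib,
    Nat.shiftRight_eq_zero t r ht, Nat.xor_zero, mul_assoc]

theorem el_shift (g : ℕ → G) (r k a : ℕ) : el g (r + k) (a <<< r) = el (fun i => g (r + i)) k a := by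
  have h1 : el g r (a <<< r) = 1 := by
    rw [← el_nil g r]
    refine el_congr g r fun j hj => ?_
    rw [Nat.testBit_shiftLeft, Nat.zero_testBit, decide_eq_false (by omega), Bool.false_and]
  rw [el_split, h1, mul_one, Nat.shiftLeft_shiftRight]

end el

/-! ### The table -/

/-- product of two elements with tails; `M` is the table of level `k` -/
def mulT (r k w M x y : ℕ) : ℕ :=
  Nat.xor (Nat.land (Nat.shiftRight M
    (Nat.mul w (Nat.add (Nat.shiftLeft (Nat.shiftRight x r) k) (Nat.shiftRight y r)))) (msk w))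
    (Nat.land (Nat.xor x y) (msk r))

theorem mulT_eq (r k w M x y : ℕ) :
    mulT r k w M x y = get w M (2 ^ k * (x >>> r) + y >>> r) ^^^ ((x ^^^ y) % 2 ^ r) := by
  unfold mulT
  rw [land_msk, land_msk, shl_eq, Nat.mul_comm _ (2 ^ k)]
  rfl

/-- one new row: `s` is the length of an old row, `ms = 2 ^ s - 1`, `O` the ones of an old row -/
def leaf (r M s ms mr O U v x y : ℕ) : ℕ :=
  Nat.add (Nat.xor (Nat.land (Nat.shiftRight M (Nat.mul s x)) ms) U)
    (Nat.shiftLeft (Nat.xor (Nat.land (Nat.shiftRight M (Nat.mul s (Nat.shiftRight y r))) ms)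
      (Nat.mul (Nat.xor (Nat.land y mr) v) O)) s)

/-- the rows `x, …, x + 2 ^ j - 1` of one half of the new table; `C` holds the conjugates of the generators -/
noncomputable def half (r k w M C s ms mr O U v j : ℕ) : ℕ → ℕ → ℕ :=
  Nat.rec (motive := fun _ => ℕ → ℕ → ℕ) (fun x y => leaf r M s ms mr O U v x y)
    (fun i ih x y => Nat.add (ih x y) (Nat.shiftLeft
      (frc (mulT r k w M y (Nat.land (Nat.shiftRight C (Nat.mul w i)) (msk (Nat.add r k))))
        (ih (Nat.add x (Nat.shiftLeft 1 i)))) (Nat.shiftLeft s (Nat.succ i)))) j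

/-- the table of level `k + 1` from the table of level `k` -/
noncomputable def step (r w R k M : ℕ) : ℕ :=
  frc (Nat.shiftRight R (Nat.mul w (tri k 0))) fun C =>
  frc (Nat.shiftLeft w k) fun s => frc (msk s) fun ms => frc (msk r) fun mr => frc (ones w k) fun O =>
  frc (Nat.shiftLeft 1 (Nat.add r k)) fun hi =>
  Nat.add (half r k w M C s ms mr O 0 hi k 0 0)
    (Nat.shiftLeft (frc (Nat.mul hi O) fun U =>
      frc (Nat.land (Nat.shiftRight C (Nat.mul w k)) (msk (Nat.add r k))) (half r k w M C s ms mr O U 0 k 0))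
      (Nat.shiftLeft s (Nat.succ k)))

/-- The packed table: entry `2 ^ n * a + b` (width `w`) is the product of `a <<< r` and `b <<< r`. -/
noncomputable def tab (r n w R : ℕ) : ℕ :=
  Nat.rec (motive := fun _ => ℕ) 0 (fun k M => frc M (step r w R k)) n

theorem tab_succ (r k w R : ℕ) : tab r (k + 1) w R = step r w R k (tab r k w R) := by
  have h : tab r (k + 1) w R = frc (tab r k w R) (step r w R k) := rfl
  rw [h, frc_eq]

section sound

variable {G : Type u} [Group G] {g : ℕ → G}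

/-- `M` is a correct table of level `k`. -/
def TabOK (g : ℕ → G) (r k w M : ℕ) : Prop :=
  ∀ a, a < 2 ^ k → ∀ b, b < 2 ^ k → get w M (2 ^ k * a + b) < 2 ^ (r + k) ∧
    el g (r + k) (a <<< r) * el g (r + k) (b <<< r) = el g (r + k) (get w M (2 ^ k * a + b))

theorem shiftRight_lt {r k x : ℕ} (hx : x < 2 ^ (r + k)) : x >>> r < 2 ^ k := by
  rw [Nat.shiftRight_eq_div_pow]
  exact Nat.div_lt_of_lt_mul (by rwa [← Nat.pow_add])

theorem el_hi_lo (g : ℕ → G) (r k x : ℕ) : el g (r + k) x = el g (r + k) ((x >>> r) <<< r) * el g r (x % 2 ^ r) := by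
  rw [el_split, el_shift, el_mod]

theorem TabOK.mul {r k w M : ℕ} (ht : Tails g r) (h : TabOK g r k w M) {x y : ℕ} (hx : x < 2 ^ (r + k))
    (hy : y < 2 ^ (r + k)) :
    mulT r k w M x y < 2 ^ (r + k) ∧ el g (r + k) x * el g (r + k) y = el g (r + k) (mulT r k w M x y) := by
  obtain ⟨h1, h2⟩ := h _ (shiftRight_lt hx) _ (shiftRight_lt hy)
  have h3 : (x ^^^ y) % 2 ^ r < 2 ^ r := Nat.mod_lt _ (Nat.two_pow_pos r)
  rw [mulT_eq]
  refine ⟨Nat.xor_lt_two_pow h1 (h3.trans_le (Nat.pow_le_pow_right (by norm_num) (Nat.le_add_right _ _))), ?_⟩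
  rw [ht.el_xor k _ h3, ← h2, el_mod, ht.xor x y r le_rfl, el_hi_lo g r k x, el_hi_lo g r k y, el_mod, el_mod,
    mul_assoc, ← mul_assoc (el g r x), ht.comm x _ r le_rfl]
  simp only [mul_assoc]

theorem leaf_eq (r k w M O U v x y : ℕ) : leaf r M (w * 2 ^ k) (msk (w * 2 ^ k)) (msk r) O U v x y =
    (get (w * 2 ^ k) M x ^^^ U) + (get (w * 2 ^ k) M (y >>> r) ^^^ ((y % 2 ^ r) ^^^ v) * O) <<< (w * 2 ^ k) := by
  unfold leaf
  rw [land_msk, land_msk, land_msk]
  rfl

theorem half_succ (r k w M C s ms mr O U v i x y : ℕ) : half r k w M C s ms mr O U v (i + 1) x y =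
    half r k w M C s ms mr O U v i x y + (half r k w M C s ms mr O U v i (x + 2 ^ i)
      (mulT r k w M y ((C >>> (w * i)) % 2 ^ (r + k)))) <<< (s * 2 * 2 ^ i) := by
  have h : half r k w M C s ms mr O U v (i + 1) x y = Nat.add (half r k w M C s ms mr O U v i x y) (Nat.shiftLeft
      (frc (mulT r k w M y (Nat.land (Nat.shiftRight C (Nat.mul w i)) (msk (Nat.add r k))))
        (half r k w M C s ms mr O U v i (Nat.add x (Nat.shiftLeft 1 i)))) (Nat.shiftLeft s (Nat.succ i))) := rfl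
  rw [h, frc_eq, land_msk, one_shl, shl_eq s, Nat.succ_eq_add_one, Nat.pow_succ, Nat.mul_comm (2 ^ i) 2,
    ← Nat.mul_assoc]
  rfl

theorem half_spec {r k w M C O U v : ℕ} (ht : Tails g r) (hM : TabOK g r k w M) {c : G}
    (hC : ∀ i, i < k → g (r + i) * c = c * el g (r + k) (C >>> (w * i)))
    (hleaf : ∀ x y, leaf r M (w * 2 ^ k) (msk (w * 2 ^ k)) (msk r) O U v x y < 2 ^ (w * 2 ^ k * 2)) :
    ∀ j, j ≤ k → ∀ x y, y < 2 ^ (r + k) →
      half r k w M C (w * 2 ^ k) (msk (w * 2 ^ k)) (msk r) O U v j x y < 2 ^ (w * 2 ^ k * 2 * 2 ^ j) ∧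
      ∀ i, i < 2 ^ j → ∃ y', y' < 2 ^ (r + k) ∧
        c * el g (r + k) y' * c⁻¹ = c * el g (r + k) y * c⁻¹ * el (fun i => g (r + i)) j i ∧
        get (w * 2 ^ k * 2) (half r k w M C (w * 2 ^ k) (msk (w * 2 ^ k)) (msk r) O U v j x y) i =
          leaf r M (w * 2 ^ k) (msk (w * 2 ^ k)) (msk r) O U v (x + i) y'
  | 0, _, x, y, hy => by
    refine ⟨by rw [Nat.pow_zero, Nat.mul_one]; exact hleaf x y, fun i hi => ⟨y, hy, by rw [el_zero, mul_one], ?_⟩⟩
    have : i = 0 := by simpa using hi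
    subst this
    exact get_zero_of_lt (hleaf x y)
  | j + 1, hj, x, y, hy => by
    have hc : (C >>> (w * j)) % 2 ^ (r + k) < 2 ^ (r + k) := Nat.mod_lt _ (Nat.two_pow_pos _)
    obtain ⟨h1, h2⟩ := hM.mul ht hy hc
    obtain ⟨a1, a2⟩ := half_spec ht hM hC hleaf j (by omega) x y hy
    obtain ⟨b1, b2⟩ := half_spec ht hM hC hleaf j (by omega) (x + 2 ^ j) _ h1
    rw [half_succ]
    refine ⟨?_, fun i hi => ?_⟩
    · rw [Nat.pow_succ, Nat.mul_two (2 ^ j), Nat.mul_add]
      exact cat_lt a1 b1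
    · by_cases h3 : i < 2 ^ j
      · obtain ⟨y', c1, c2, c3⟩ := a2 i h3
        refine ⟨y', c1, ?_, ?_⟩
        · rw [c2, el_of_lt _ h3 (Nat.le_succ j)]
        · rw [get_cat_lo _ a1 h3, c3]
      · obtain ⟨i', rfl⟩ := Nat.exists_eq_add_of_le (not_lt.1 h3)
        have h4 : i' < 2 ^ j := by rw [Nat.pow_succ] at hi; omega
        obtain ⟨y', c1, c2, c3⟩ := b2 i' h4
        refine ⟨y', c1, ?_, ?_⟩
        · have h6 : g (r + j) = c * el g (r + k) (C >>> (w * j)) * c⁻¹ := by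
            rw [← hC j (by omega), mul_inv_cancel_right]
          rw [c2, ← h2, el_mod, two_pow_add_eq_xor h4, el_top _ h4, h6]
          group
        · rw [get_cat_hi _ a1, c3, Nat.add_assoc]

theorem xor_lt {a b k : ℕ} (ha : a < 2 ^ k) (hb : b < 2 ^ k) : a ^^^ b < 2 ^ k := Nat.xor_lt_two_pow ha hb

theorem leaf_lt {r k w M U v : ℕ} (hw : r + k < w) (hU : U < 2 ^ (w * 2 ^ k)) (hv : v < 2 ^ w) (x y : ℕ) :
    leaf r M (w * 2 ^ k) (msk (w * 2 ^ k)) (msk r) (ones w k) U v x y < 2 ^ (w * 2 ^ k * 2) := by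
  have h1 : y % 2 ^ r < 2 ^ w :=
    (Nat.mod_lt _ (Nat.two_pow_pos r)).trans_le (Nat.pow_le_pow_right (by norm_num) (by omega))
  rw [leaf_eq, Nat.mul_two]
  exact cat_lt (xor_lt (get_lt _ _ _) hU) (xor_lt (get_lt _ _ _) (mul_ones_lt (xor_lt h1 hv) k))

theorem get_leaf_lo {r k w M u v : ℕ} (hu : u < 2 ^ w) (x y : ℕ) {b : ℕ} (hb : b < 2 ^ k) :
    get w (leaf r M (w * 2 ^ k) (msk (w * 2 ^ k)) (msk r) (ones w k) (u * ones w k) v x y) b =
      get w M (2 ^ k * x + b) ^^^ u := by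
  rw [leaf_eq, get_cat_lo _ (xor_lt (get_lt _ _ _) (mul_ones_lt hu k)) hb, get_xor, get_get _ _ _ _ hb,
    get_mul_ones hu k hb]

theorem get_leaf_hi {r k w M u v : ℕ} (hw : r + k < w) (hu : u < 2 ^ w) (hv : v < 2 ^ w) (x y : ℕ) {b : ℕ}
    (hb : b < 2 ^ k) :
    get w (leaf r M (w * 2 ^ k) (msk (w * 2 ^ k)) (msk r) (ones w k) (u * ones w k) v x y) (2 ^ k + b) =
      get w M (2 ^ k * (y >>> r) + b) ^^^ (y % 2 ^ r) ^^^ v := by
  have h1 : y % 2 ^ r < 2 ^ w :=
    (Nat.mod_lt _ (Nat.two_pow_pos r)).trans_le (Nat.pow_le_pow_right (by norm_num) (by omega))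
  rw [leaf_eq, get_cat_hi _ (xor_lt (get_lt _ _ _) (mul_ones_lt hu k)), get_xor, get_get _ _ _ _ hb,
    get_mul_ones (xor_lt h1 hv) k hb, Nat.xor_assoc]

theorem step_eq (r w R k M : ℕ) : step r w R k M =
    half r k w M (R >>> (w * tri k 0)) (w * 2 ^ k) (msk (w * 2 ^ k)) (msk r) (ones w k) (0 * ones w k) (2 ^ (r + k))
      k 0 0 + (half r k w M (R >>> (w * tri k 0)) (w * 2 ^ k) (msk (w * 2 ^ k)) (msk r) (ones w k)
        (2 ^ (r + k) * ones w k) 0 k 0 ((R >>> (w * tri k 0) >>> (w * k)) % 2 ^ (r + k))) <<< (w * 2 ^ k * 2 * 2 ^ k) := by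
  unfold step
  simp only [frc_eq, land_msk]
  rw [one_shl, shl_eq w, shl_eq (w * 2 ^ k), Nat.succ_eq_add_one, Nat.pow_succ,
    Nat.mul_comm (2 ^ k) 2, ← Nat.mul_assoc, Nat.zero_mul]
  rfl

theorem el_rel {r k w R j : ℕ} (hw : r + k ≤ w) :
    el g (r + k) (R >>> (w * tri k 0) >>> (w * j)) = el g (r + k) (get w R (tri k j)) := by
  refine el_congr g _ fun l hl => ?_
  rw [testBit_get, decide_eq_true (by omega), Bool.true_and, Nat.testBit_shiftRight, Nat.testBit_shiftRight]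
  congr 1
  unfold tri
  ring

theorem el_shift_top (g : ℕ → G) {r k a : ℕ} (ha : a < 2 ^ k) :
    el g (r + (k + 1)) ((2 ^ k + a) <<< r) = g (r + k) * el g (r + k) (a <<< r) := by
  rw [el_shift, el_shift, two_pow_add_eq_xor ha, el_top _ ha]

theorem el_shift_lo (g : ℕ → G) {r k a : ℕ} (ha : a < 2 ^ k) :
    el g (r + (k + 1)) (a <<< r) = el g (r + k) (a <<< r) := by
  rw [el_shift, el_shift, el_of_lt _ ha (Nat.le_succ k)]

theorem TabOK.step {r n k w R M : ℕ} (h : IsPc g r n w R) (hk : k < n) (hw : r + k < w) (hM : TabOK g r k w M) :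
    TabOK g r (k + 1) w (step r w R k M) := by
  have ht := h.tails
  have hC : ∀ i, i < k → g (r + i) * g (r + k) = g (r + k) * el g (r + k) (R >>> (w * tri k 0) >>> (w * i)) :=
    fun i hi => by rw [el_rel hw.le, h.cj k hk i hi]
  have hhi : 2 ^ (r + k) < 2 ^ w := Nat.pow_lt_pow_right (by norm_num) hw
  have h0 : 0 < 2 ^ w := Nat.two_pow_pos w
  have hp : (R >>> (w * tri k 0) >>> (w * k)) % 2 ^ (r + k) < 2 ^ (r + k) := Nat.mod_lt _ (Nat.two_pow_pos _)
  obtain ⟨a1, a2⟩ := half_spec ht hM hC (leaf_lt (M := M) hw (mul_ones_lt h0 k) hhi) k le_rfl 0 0 (Nat.two_pow_pos _)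
  obtain ⟨b1, b2⟩ := half_spec ht hM hC (leaf_lt (M := M) hw (mul_ones_lt hhi k) h0) k le_rfl 0 _ hp
  have hrow : ∀ (T x : ℕ) {b : ℕ}, b < 2 ^ (k + 1) →
      get w T (2 ^ (k + 1) * x + b) = get w (get (w * 2 ^ k * 2) T x) b := fun T x b hb => by
    rw [← get_get w _ T x hb, Nat.pow_succ, ← Nat.mul_assoc]
  have hlt : ∀ {e : ℕ}, e < 2 ^ (r + k) → e < 2 ^ (r + (k + 1)) := fun he =>
    he.trans_le (Nat.pow_le_pow_right (by norm_num) (by omega))
  have hlt' : ∀ {e : ℕ}, e < 2 ^ (r + k) → e ^^^ 2 ^ (r + k) < 2 ^ (r + (k + 1)) := fun he =>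
    xor_lt (hlt he) (Nat.pow_lt_pow_right (by norm_num) (by omega))
  have hup : ∀ {e : ℕ}, e < 2 ^ (r + k) → el g (r + (k + 1)) e = el g (r + k) e := fun he =>
    el_of_lt g he (by omega)
  have htop : ∀ {e : ℕ}, e < 2 ^ (r + k) → el g (r + (k + 1)) (e ^^^ 2 ^ (r + k)) = g (r + k) * el g (r + k) e :=
    fun he => el_top g he
  -- products `y * b`
  have hyb : ∀ {y b : ℕ}, y < 2 ^ (r + k) → b < 2 ^ k →
      get w M (2 ^ k * (y >>> r) + b) ^^^ (y % 2 ^ r) < 2 ^ (r + k) ∧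
      el g (r + k) (get w M (2 ^ k * (y >>> r) + b) ^^^ (y % 2 ^ r)) = el g (r + k) y * el g (r + k) (b <<< r) := by
    intro y b hy hb
    have h1 : y % 2 ^ r < 2 ^ r := Nat.mod_lt _ (Nat.two_pow_pos r)
    obtain ⟨c1, c2⟩ := hM _ (shiftRight_lt hy) b hb
    refine ⟨xor_lt c1 (h1.trans_le (Nat.pow_le_pow_right (by norm_num) (by omega))), ?_⟩
    rw [ht.el_xor k _ h1, ← c2, el_hi_lo g r k y, mul_assoc, mul_assoc, ht.comm _ _ r le_rfl]
  intro a0 ha0 b0 hb0
  rw [step_eq, hrow _ _ hb0]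
  have hsplit : ∀ {a : ℕ}, a < 2 ^ (k + 1) → a < 2 ^ k ∨ ∃ a', a' < 2 ^ k ∧ a = 2 ^ k + a' := fun {a} ha => by
    by_cases h3 : a < 2 ^ k
    · exact Or.inl h3
    · obtain ⟨a', rfl⟩ := Nat.exists_eq_add_of_le (not_lt.1 h3)
      exact Or.inr ⟨a', by rw [Nat.pow_succ] at ha; omega, rfl⟩
  rcases hsplit ha0 with ha | ⟨a, ha, rfl⟩
  · obtain ⟨y, c1, c2, c3⟩ := a2 a0 ha
    rw [get_cat_lo _ a1 ha, c3, Nat.zero_add]
    rw [el_nil, mul_one, mul_inv_cancel, one_mul, ← el_shift] at c2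
    rcases hsplit hb0 with hb | ⟨b, hb, rfl⟩
    · obtain ⟨d1, d2⟩ := hM a0 ha b0 hb
      rw [get_leaf_lo h0 _ _ hb, Nat.xor_zero, el_shift_lo g ha, el_shift_lo g hb, hup d1]
      exact ⟨hlt d1, d2⟩
    · obtain ⟨d1, d2⟩ := hyb c1 hb
      rw [get_leaf_hi hw h0 hhi _ _ hb, el_shift_lo g ha, el_shift_top g hb, htop d1, d2, ← c2]
      exact ⟨hlt' d1, by group⟩
  · obtain ⟨y, c1, c2, c3⟩ := b2 a ha
    rw [get_cat_hi _ a1, c3, Nat.zero_add]
    rw [el_mod, el_rel hw.le, ← h.pw k hk, ← el_shift] at c2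
    rcases hsplit hb0 with hb | ⟨b, hb, rfl⟩
    · obtain ⟨d1, d2⟩ := hM a ha b0 hb
      rw [get_leaf_lo hhi _ _ hb, el_shift_top g ha, el_shift_lo g hb, htop d1, mul_assoc, d2]
      exact ⟨hlt' d1, rfl⟩
    · obtain ⟨d1, d2⟩ := hyb c1 hb
      rw [get_leaf_hi hw hhi h0 _ _ hb, Nat.xor_zero, el_shift_top g ha, el_shift_top g hb, hup d1, d2]
      refine ⟨hlt d1, ?_⟩
      have h5 : el g (r + k) y = (g (r + k))⁻¹ * (g (r + k) * el g (r + k) y * (g (r + k))⁻¹) * g (r + k) := by group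
      rw [h5, c2]
      group

theorem IsPc.tab_ok' {r n w R : ℕ} (h : IsPc g r n w R) (hw : r + n ≤ w) :
    ∀ k, k ≤ n → TabOK g r k w (tab r k w R)
  | 0, _ => fun a ha b hb => by
    have h1 : a = 0 := by simpa using ha
    have h2 : b = 0 := by simpa using hb
    have h3 : get w (tab r 0 w R) (2 ^ 0 * a + b) = 0 := by
      show get w 0 _ = 0
      unfold get
      rw [Nat.zero_shiftRight, Nat.zero_mod]
    rw [h3, h1, h2, Nat.zero_shiftLeft, el_nil, mul_one]
    exact ⟨Nat.two_pow_pos _, rfl⟩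
  | k + 1, hk => by
    rw [tab_succ]
    exact (h.tab_ok' hw k (by omega)).step h hk (by omega)

/-- **Soundness of the table.** -/
theorem IsPc.tab_ok {r n w R : ℕ} (h : IsPc g r n w R) (hw : r + n ≤ w) : TabOK g r n w (tab r n w R) :=
  h.tab_ok' hw n le_rfl

theorem IsPc.mul {r n w R : ℕ} (h : IsPc g r n w R) (hw : r + n ≤ w) {x y : ℕ} (hx : x < 2 ^ (r + n))
    (hy : y < 2 ^ (r + n)) : mulT r n w (tab r n w R) x y < 2 ^ (r + n) ∧
      el g (r + n) x * el g (r + n) y = el g (r + n) (mulT r n w (tab r n w R) x y) :=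
  (h.tab_ok hw).mul h.tails hx hy

end sound

end Cfsg.Agent.FS.Pc
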